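import Cfsg.Agent.Lib.Helper5.F11.H17.FrCDefs

/-!
CORE13 (S5679 + S5696, helper17's market), block A: leaf A3 `special_types` in core form
(the field facts A2 `sp_facts` as a hypothesis) + small-number facts for a prime field of order `≥ 11`.
-/

set_option autoImplicit false
set_option linter.unusedSectionVars false
set_option linter.unusedVariables false

namespace Cfsg.Agent.Lib.Helper5.F11.H23.FrCLeaf

open Module QuadraticMap Matrix Cfsg.Agent.Lib.Helper25.CD Cfsg.Agent.Lib.Helper25.Spin
  Cfsg.Agent.Lib.Helper5.NSMax Cfsg.Agent.Lib.Helper5.PairMax Cfsg.Agent.Lib.Helper17.OC2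
  Cfsg.Agent.Lib.Helper29.FrStd Cfsg.Agent.Lib.Helper11.Mono Cfsg.Agent.Lib.Helper5.F11.H17.FrC

variable {κ : Type} [Fintype κ] [DecidableEq κ] {F : Type*} [Field F] [Fintype F]
  {c : F} {M : Subgroup ↥(Cfsg.isometryGroup F ⇑(stdQ κ F c))}

theorem frc_charP (hp : (Fintype.card F).Prime) : CharP F (Fintype.card F) := by
  obtain ⟨n, hpr, hcard⟩ := FiniteField.card F (ringChar F)
  have h := (hp.pow_eq_iff).1 hcard.symm
  rw [← h.1]
  exact ringChar.charP F

theorem frc_natCast_ne_zero (hp : (Fintype.card F).Prime) (h11 : 11 ≤ Fintype.card F) {m : ℕ}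
    (h0 : 0 < m) (hm : m < 11) : (m : F) ≠ 0 := by
  have := frc_charP (F := F) hp
  rw [Ne, CharP.cast_eq_zero_iff F (Fintype.card F)]
  intro hd
  have := Nat.le_of_dvd h0 hd
  omega

theorem frc_natCast_inj (hp : (Fintype.card F).Prime) (h11 : 11 ≤ Fintype.card F) {m n : ℕ}
    (hm : m < 11) (hn : n < 11) (h : (m : F) = n) : m = n := by
  have := frc_charP (F := F) hp
  have := (CharP.natCast_eq_natCast F (Fintype.card F)).1 h
  exact Nat.ModEq.eq_of_lt_of_lt this (by omega) (by omega)

open Classical in
/-- decomposition of the total sum when outside `E` all values are `0` or `1/4` -/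
theorem frc_sum_quarters (lam : κ → F) (h4 : (4 : F) ≠ 0) (E : Finset κ)
    (hout : ∀ l, l ∉ E → lam l = 0 ∨ 4 * lam l = 1) (hin : ∀ l ∈ E, 4 * lam l ≠ 1) :
    ∑ l, lam l = ∑ l ∈ E, lam l +
      ((Finset.univ.filter (fun l => 4 * lam l = 1)).card : F) * 4⁻¹ := by
  rw [← Finset.sum_add_sum_compl E lam]
  congr 1
  have h1 : ∀ l ∈ Eᶜ, lam l = if 4 * lam l = 1 then (4 : F)⁻¹ else 0 := by
    intro l hl
    rw [Finset.mem_compl] at hl
    rcases hout l hl with h | h
    · have : 4 * lam l ≠ 1 := by rw [h, mul_zero]; exact zero_ne_one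
      rw [if_neg this, h]
    · rw [if_pos h]
      field_simp
      linear_combination h
  have h2 : Finset.filter (fun l => 4 * lam l = 1) Eᶜ = Finset.univ.filter (fun l => 4 * lam l = 1) := by
    ext l
    simp only [Finset.mem_filter, Finset.mem_compl, Finset.mem_univ, true_and, and_iff_right_iff_imp]
    intro h hE
    exact hin l hE h
  rw [Finset.sum_congr rfl h1, ← Finset.sum_filter, Finset.sum_const, nsmul_eq_mul, h2]


/-- A3 in core form: the field facts A2 are a hypothesis -/
theorem special_types_core (hp : (Fintype.card F).Prime) (h11 : 11 ≤ Fintype.card F)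
    (hA2 : (∀ x : F, 16 * x = 1 → ¬ Sp x) ∧ (∀ x : F, 8 * x = 1 → ¬ Sp x) ∧
      (∀ x : F, 16 * x ^ 2 - 12 * x + 1 = 0 → ¬ Sp (2 * x)) ∧
      (∀ x : F, 16 * x ^ 2 - 12 * x + 1 = 0 → Sp (4 * x ^ 2) → 4 * x ^ 2 = 1) ∧
      (∀ x y : F, 16 * x ^ 2 - 12 * x + 1 = 0 → 16 * y ^ 2 - 12 * y + 1 = 0 → x ≠ y → 4 * x + 4 * y = 3))
    (lam : κ → F) (hsum : ∑ l, lam l = 1)
    (h3 : 3 ≤ (supp lam).card)
    (hsp : ∀ l, Sp (lam l)) (hpair : ∀ i l, i ≠ l → lam i ≠ 0 → lam l ≠ 0 →
      Sp (4 * lam i * lam l) ∧ 4 * lam i * lam l ≠ 1)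
    (hfree : ∀ T : Finset κ, (∃ l ∈ T, lam l ≠ 0) → (∃ l, l ∉ T ∧ lam l ≠ 0) → ∑ l ∈ T, lam l ≠ 0) :
    (∃ S : Finset κ, S.card = 4 ∧ (∀ l ∈ S, 4 * lam l = 1) ∧ ∀ l, l ∉ S → lam l = 0) ∨
    (∃ i j k : κ, i ≠ j ∧ i ≠ k ∧ j ≠ k ∧ 4 * lam i = 1 ∧ 4 * lam j = 1 ∧ 2 * lam k = 1 ∧
      ∀ l, l ≠ i → l ≠ j → l ≠ k → lam l = 0) ∨
    (∃ i j k : κ, i ≠ j ∧ i ≠ k ∧ j ≠ k ∧ 4 * lam i = 1 ∧ 16 * lam j * lam k = 1 ∧ 4 * lam j + 4 * lam k = 3 ∧
      ∀ l, l ≠ i → l ≠ j → l ≠ k → lam l = 0) := by
  classical
  obtain ⟨hA21, hA22, hA23, hA24, hA25⟩ := hA2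
  have n2 : (2 : F) ≠ 0 := by
    exact_mod_cast frc_natCast_ne_zero (F := F) hp h11 (m := 2) (by norm_num) (by norm_num)
  have n4 : (4 : F) ≠ 0 := by
    exact_mod_cast frc_natCast_ne_zero (F := F) hp h11 (m := 4) (by norm_num) (by norm_num)
  have n5 : (5 : F) ≠ 0 := by
    exact_mod_cast frc_natCast_ne_zero (F := F) hp h11 (m := 5) (by norm_num) (by norm_num)
  have h4inv : (4 : F) * 4⁻¹ = 1 := mul_inv_cancel₀ n4
  -- no value `1`
  have hne1 : ∀ i, lam i ≠ 1 := by
    intro i hi
    have hT : ∑ l ∈ Finset.univ.erase i, lam l = 0 := by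
      have := Finset.add_sum_erase Finset.univ lam (Finset.mem_univ i)
      rw [hsum, hi] at this
      linear_combination this
    obtain ⟨l, hl, hli⟩ := Finset.exists_mem_ne (by omega : 1 < (supp lam).card) i
    exact hfree (Finset.univ.erase i) ⟨l, Finset.mem_erase.2 ⟨hli, Finset.mem_univ _⟩, mem_supp.1 hl⟩
      ⟨i, by simp, by rw [hi]; exact one_ne_zero⟩ hT
  -- class facts
  have hQ0 : ∀ x : F, 4 * x = 1 → x ≠ 0 := by
    rintro x hx rfl
    rw [mul_zero] at hx
    exact zero_ne_one hx
  have hH0 : ∀ x : F, 2 * x = 1 → x ≠ 0 := by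
    rintro x hx rfl
    rw [mul_zero] at hx
    exact zero_ne_one hx
  have hR0 : ∀ x : F, 16 * x ^ 2 - 12 * x + 1 = 0 → x ≠ 0 := by
    rintro x hx rfl
    apply one_ne_zero (α := F)
    linear_combination hx
  have hQR : ∀ x : F, 4 * x = 1 → 16 * x ^ 2 - 12 * x + 1 = 0 → False := by
    intro x hx h
    apply one_ne_zero (α := F)
    linear_combination (-1 : F) * h + (4 * x - 2) * hx
  have hHR' : ∀ x : F, 2 * x = 1 → 16 * x ^ 2 - 12 * x + 1 = 0 → False := by
    intro x hx h
    apply one_ne_zero (α := F)
    linear_combination (-1 : F) * h + (8 * x - 2) * hx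
  have hQH : ∀ x : F, 4 * x = 1 → 2 * x = 1 → False := by
    intro x hx h
    apply one_ne_zero (α := F)
    linear_combination hx - 2 * h
  -- at most one `1/2`
  have hHuniq : ∀ i l, 2 * lam i = 1 → 2 * lam l = 1 → i = l := by
    intro i l hi hl
    by_contra hne
    apply (hpair i l hne (hH0 _ hi) (hH0 _ hl)).2
    linear_combination (2 * lam l) * hi + hl
  -- no `1/2` together with a root
  have hHR : ∀ i l, 2 * lam i = 1 → 16 * lam l ^ 2 - 12 * lam l + 1 = 0 → False := by
    intro i l hi hl
    have hne : i ≠ l := by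
      rintro rfl
      exact hHR' _ hi hl
    have h1 := (hpair i l hne (hH0 _ hi) (hR0 _ hl)).1
    have h2 : 4 * lam i * lam l = 2 * lam l := by linear_combination (2 * lam l) * hi
    rw [h2] at h1
    exact hA23 _ hl h1
  -- distinct root indices have distinct values
  have hRR : ∀ i l, i ≠ l → 16 * lam i ^ 2 - 12 * lam i + 1 = 0 → 16 * lam l ^ 2 - 12 * lam l + 1 = 0 →
      lam i ≠ lam l := by
    intro i l hne hi hl heq
    obtain ⟨h1, h2⟩ := hpair i l hne (hR0 _ hi) (hR0 _ hl)
    have h3 : 4 * lam i * lam l = 4 * lam i ^ 2 := by rw [← heq]; ring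
    rw [h3] at h1 h2
    exact h2 (hA24 _ hi h1)
  by_cases hbig : 4 ≤ (Finset.univ.filter (fun l => 4 * lam l = 1)).card
  · obtain ⟨S, hSsub, hScard⟩ := Finset.exists_subset_card_eq hbig
    have hSQ : ∀ l ∈ S, 4 * lam l = 1 := fun l hl => (Finset.mem_filter.1 (hSsub hl)).2
    left
    refine ⟨S, hScard, hSQ, ?_⟩
    have hS1 : ∑ l ∈ S, lam l = 1 := by
      have h1 : ∀ l ∈ S, lam l = (4 : F)⁻¹ := by
        intro l hl
        have := hSQ l hl
        field_simp
        linear_combination this
      rw [Finset.sum_congr rfl h1, Finset.sum_const, hScard, nsmul_eq_mul]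
      push_cast
      exact h4inv
    have hSc : ∑ l ∈ Sᶜ, lam l = 0 := by
      have := Finset.sum_add_sum_compl S lam
      rw [hS1, hsum] at this
      linear_combination this
    intro l hl
    by_contra hne
    obtain ⟨s0, hs0⟩ : S.Nonempty := Finset.card_pos.1 (by omega)
    exact hfree Sᶜ ⟨l, Finset.mem_compl.2 hl, hne⟩
      ⟨s0, by simpa using hs0, hQ0 _ (hSQ s0 hs0)⟩ hSc
  · have hk4 : (Finset.univ.filter (fun l => 4 * lam l = 1)).card < 4 := by omega
    have hkey := frc_sum_quarters lam n4
    generalize hk : (Finset.univ.filter (fun l => 4 * lam l = 1)).card = k at hk4 hkey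
    by_cases hH : ∃ i0, 2 * lam i0 = 1
    · obtain ⟨i0, hi0⟩ := hH
      have hout : ∀ l, l ∉ ({i0} : Finset κ) → lam l = 0 ∨ 4 * lam l = 1 := by
        intro l hl
        have hl' : l ≠ i0 := by simpa using hl
        rcases hsp l with h | h | h | h | h
        · left; exact h
        · exact absurd h (hne1 l)
        · right; exact h
        · exact absurd (hHuniq l i0 h hi0) hl'
        · exact (hHR i0 l hi0 h).elim
      have hin : ∀ l ∈ ({i0} : Finset κ), 4 * lam l ≠ 1 := by
        intro l hl h4
        rw [Finset.mem_singleton] at hl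
        subst hl
        exact hQH _ h4 hi0
      have h1 := hkey {i0} hout hin
      rw [hsum, Finset.sum_singleton] at h1
      have hk2 : (k : F) = ((2 : ℕ) : F) := by
        push_cast
        linear_combination (-(k : F)) * h4inv - 4 * h1 - 2 * hi0
      have hk2' : k = 2 := frc_natCast_inj (F := F) hp h11 (by omega) (by norm_num) hk2
      rw [hk2'] at hk
      obtain ⟨x, y, hxy, hS⟩ := Finset.card_eq_two.1 hk
      have hx : 4 * lam x = 1 := by
        have : x ∈ Finset.univ.filter (fun l => 4 * lam l = 1) := by rw [hS]; simp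
        exact (Finset.mem_filter.1 this).2
      have hy : 4 * lam y = 1 := by
        have : y ∈ Finset.univ.filter (fun l => 4 * lam l = 1) := by rw [hS]; simp
        exact (Finset.mem_filter.1 this).2
      right; left
      refine ⟨x, y, i0, hxy, ?_, ?_, hx, hy, hi0, ?_⟩
      · rintro rfl
        exact hQH _ hx hi0
      · rintro rfl
        exact hQH _ hy hi0
      · intro l hlx hly hli
        rcases hout l (by simpa using hli) with h | h
        · exact h
        · have : l ∈ Finset.univ.filter (fun l => 4 * lam l = 1) := by simp [h]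
          rw [hS] at this
          simp at this
          rcases this with rfl | rfl
          · exact absurd rfl hlx
          · exact absurd rfl hly
    · have hH' : ∀ i, 2 * lam i ≠ 1 := fun i hi => hH ⟨i, hi⟩
      by_cases hR : ∃ j, 16 * lam j ^ 2 - 12 * lam j + 1 = 0
      · obtain ⟨j, hj⟩ := hR
        by_cases hR2 : ∃ j', j' ≠ j ∧ 16 * lam j' ^ 2 - 12 * lam j' + 1 = 0
        · obtain ⟨j', hjj', hj'⟩ := hR2
          have hval : lam j ≠ lam j' := hRR j j' (Ne.symm hjj') hj hj'
          have hV := hA25 (lam j) (lam j') hj hj' hval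
          have hprod : 16 * lam j * lam j' = 1 := by
            linear_combination (-1 : F) * hj + 4 * lam j * hV
          have hout : ∀ l, l ∉ ({j, j'} : Finset κ) → lam l = 0 ∨ 4 * lam l = 1 := by
            intro l hl
            have hl' : l ≠ j ∧ l ≠ j' := by simpa using hl
            rcases hsp l with h | h | h | h | h
            · left; exact h
            · exact absurd h (hne1 l)
            · right; exact h
            · exact absurd h (hH' l)
            · exfalso
              have h1 := hA25 (lam l) (lam j) h hj (hRR l j hl'.1 h hj)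
              have h2 := hRR l j' hl'.2 h hj'
              apply h2
              have : 4 * (lam l - lam j') = 0 := by linear_combination h1 - hV
              rcases mul_eq_zero.1 this with h0 | h0
              · exact absurd h0 n4
              · exact sub_eq_zero.1 h0
          have hin : ∀ l ∈ ({j, j'} : Finset κ), 4 * lam l ≠ 1 := by
            intro l hl h4
            simp only [Finset.mem_insert, Finset.mem_singleton] at hl
            rcases hl with rfl | rfl
            · exact hQR _ h4 hj
            · exact hQR _ h4 hj'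
          have h1 := hkey {j, j'} hout hin
          rw [hsum, Finset.sum_pair (Ne.symm hjj')] at h1
          have hk1 : (k : F) = ((1 : ℕ) : F) := by
            push_cast
            linear_combination (-(k : F)) * h4inv - 4 * h1 - hV
          have hk1' : k = 1 := frc_natCast_inj (F := F) hp h11 (by omega) (by norm_num) hk1
          rw [hk1'] at hk
          obtain ⟨x, hS⟩ := Finset.card_eq_one.1 hk
          have hx : 4 * lam x = 1 := by
            have : x ∈ Finset.univ.filter (fun l => 4 * lam l = 1) := by rw [hS]; simp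
            exact (Finset.mem_filter.1 this).2
          right; right
          refine ⟨x, j, j', ?_, ?_, Ne.symm hjj', hx, hprod, hV, ?_⟩
          · rintro rfl
            exact hQR _ hx hj
          · rintro rfl
            exact hQR _ hx hj'
          · intro l hlx hlj hlj'
            rcases hout l (by simp [hlj, hlj']) with h | h
            · exact h
            · have : l ∈ Finset.univ.filter (fun l => 4 * lam l = 1) := by simp [h]
              rw [hS] at this
              simp at this
              exact absurd this hlx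
        · exfalso
          have hR2' : ∀ j', j' ≠ j → 16 * lam j' ^ 2 - 12 * lam j' + 1 ≠ 0 := fun j' h1 h2 => hR2 ⟨j', h1, h2⟩
          have hout : ∀ l, l ∉ ({j} : Finset κ) → lam l = 0 ∨ 4 * lam l = 1 := by
            intro l hl
            have hl' : l ≠ j := by simpa using hl
            rcases hsp l with h | h | h | h | h
            · left; exact h
            · exact absurd h (hne1 l)
            · right; exact h
            · exact absurd h (hH' l)
            · exact absurd h (hR2' l hl')
          have hin : ∀ l ∈ ({j} : Finset κ), 4 * lam l ≠ 1 := by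
            intro l hl h4
            rw [Finset.mem_singleton] at hl
            subst hl
            exact hQR _ h4 hj
          have h1 := hkey {j} hout hin
          rw [hsum, Finset.sum_singleton] at h1
          have h4l : 4 * lam j = 4 - (k : F) := by
            linear_combination (-(k : F)) * h4inv - 4 * h1
          have hpoly : (4 - (k : F)) ^ 2 - 3 * (4 - (k : F)) + 1 = 0 := by
            rw [← h4l]
            linear_combination hj
          interval_cases k
          · apply n5
            push_cast at hpoly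
            linear_combination hpoly
          · apply one_ne_zero (α := F)
            push_cast at hpoly
            linear_combination hpoly
          · apply one_ne_zero (α := F)
            push_cast at hpoly
            linear_combination (-1 : F) * hpoly
          · apply one_ne_zero (α := F)
            push_cast at hpoly
            linear_combination (-1 : F) * hpoly
      · exfalso
        have hR' : ∀ j, 16 * lam j ^ 2 - 12 * lam j + 1 ≠ 0 := fun j hj => hR ⟨j, hj⟩
        have hout : ∀ l, l ∉ (∅ : Finset κ) → lam l = 0 ∨ 4 * lam l = 1 := by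
          intro l _
          rcases hsp l with h | h | h | h | h
          · left; exact h
          · exact absurd h (hne1 l)
          · right; exact h
          · exact absurd h (hH' l)
          · exact absurd h (hR' l)
        have h1 := hkey ∅ hout (by simp)
        rw [hsum, Finset.sum_empty, zero_add] at h1
        have hk4' : (k : F) = ((4 : ℕ) : F) := by
          push_cast
          linear_combination (-(k : F)) * h4inv - 4 * h1
        have := frc_natCast_inj (F := F) hp h11 (by omega) (by norm_num) hk4'
        omega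

end Cfsg.Agent.Lib.Helper5.F11.H23.FrCLeaf
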